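import Mathlib

/-!
Fixed-point-free elements of prime order in transitive groups of special degrees, and the
Cameron-Cohen lower bound for the number of derangements.
-/

set_option autoImplicit false

namespace CfsgLib.PermS

open MulAction

variable {G Ω : Type*} [Group G] [Finite G] [MulAction G Ω]

/-- If `p ^ k` divides the degree of a transitive group, it divides every orbit length of a Sylow
`p`-subgroup. -/
theorem pow_dvd_relIndex_stabilizer [Fintype Ω] (htr : IsPretransitive G Ω) {p k : ℕ}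
    [hp : Fact p.Prime] (P : Sylow p G) (h : p ^ k ∣ Fintype.card Ω) (ω : Ω) :
    p ^ k ∣ (stabilizer G ω).relIndex (P : Subgroup G) := by
  have h1 : (stabilizer G ω).index = Fintype.card Ω := by
    rw [index_stabilizer_of_transitive, Nat.card_eq_fintype_card]
  have h2 : (stabilizer G ω).index ∣ (stabilizer G ω ⊓ (P : Subgroup G)).index :=
    Subgroup.index_dvd_of_le inf_le_left
  rw [← Subgroup.relIndex_mul_index (inf_le_right : stabilizer G ω ⊓ (P : Subgroup G) ≤ P),
    Subgroup.inf_relIndex_right, h1] at h2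
  exact (Nat.Coprime.pow_left k ((Nat.Prime.coprime_iff_not_dvd hp.out).2 P.not_dvd_index)
    ).dvd_of_dvd_mul_right (h.trans h2)

theorem relIndex_stabilizer_eq (P : Subgroup G) (ω : Ω) :
    (stabilizer G ω).relIndex P = (orbit P ω).ncard := by
  rw [← index_stabilizer]
  rfl

theorem exists_fpf_of_prime_pow [FaithfulSMul G Ω] [Fintype Ω] (htr : IsPretransitive G Ω)
    {p k : ℕ} (hp : p.Prime) (hk : 1 ≤ k) (hΩ : Fintype.card Ω = p ^ k) :
    ∃ g : G, orderOf g = p ∧ ∀ ω : Ω, g • ω ≠ ω := by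
  have := Fact.mk hp
  obtain ⟨P⟩ : Nonempty (Sylow p G) := inferInstance
  have horb : ∀ ω : Ω, orbit (P : Subgroup G) ω = Set.univ := by
    intro ω
    have h1 := pow_dvd_relIndex_stabilizer htr P (k := k) (by rw [hΩ]) ω
    rw [relIndex_stabilizer_eq] at h1
    refine Set.eq_of_subset_of_ncard_le (Set.subset_univ _) ?_
    rw [Set.ncard_univ, Nat.card_eq_fintype_card, hΩ]
    exact Nat.le_of_dvd ((Set.ncard_pos (Set.toFinite _)).2 ⟨ω, mem_orbit_self ω⟩) h1
  have hpos : 1 < Fintype.card Ω := hΩ ▸ Nat.one_lt_pow (by omega) hp.one_lt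
  have hnt : Nontrivial (P : Subgroup G) := by
    obtain ⟨a, b, hab⟩ := Fintype.exists_pair_of_one_lt_card hpos
    obtain ⟨x, hx⟩ : a ∈ orbit (P : Subgroup G) b := horb b ▸ Set.mem_univ a
    refine ⟨x, 1, fun h => hab ?_⟩
    rw [← hx, h]; simp
  have hc := IsPGroup.center_nontrivial P.isPGroup'
  have hpc : IsPGroup p (Subgroup.center (P : Subgroup G)) := P.isPGroup'.to_subgroup _
  obtain ⟨n, hn, hcard⟩ := hpc.nontrivial_iff_card.1 hc
  obtain ⟨z, hz⟩ := exists_prime_orderOf_dvd_card' (G := Subgroup.center (P : Subgroup G)) p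
    (hcard ▸ dvd_pow_self p hn.ne')
  refine ⟨z.1.1, by rw [Subgroup.orderOf_coe, Subgroup.orderOf_coe, hz], fun ω hω => ?_⟩
  have h1 : z.1.1 = 1 := by
    refine eq_of_smul_eq_smul (α := Ω) fun a => ?_
    obtain ⟨x, rfl⟩ : a ∈ orbit (P : Subgroup G) ω := horb ω ▸ Set.mem_univ a
    have hx : (x : G) * z.1.1 = z.1.1 * x := congrArg Subtype.val (Subgroup.mem_center_iff.1 z.2 x)
    change z.1.1 • (x : G) • ω = (1 : G) • (x : G) • ω
    rw [one_smul, smul_smul, ← hx, mul_smul, hω]
  have h2 : z = 1 := Subtype.ext (Subtype.ext h1)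
  rw [h2, orderOf_one] at hz
  exact hp.one_lt.ne hz

theorem sum_card_fixedBy (H : Type*) [Group H] [Fintype H] [MulAction H Ω] [Fintype Ω] :
    ∑ g : H, Nat.card (fixedBy Ω g) = ∑ ω : Ω, Nat.card (stabilizer H ω) := by
  classical
  simp only [Nat.card_eq_fintype_card, Fintype.card_subtype, Finset.card_filter, mem_fixedBy,
    mem_stabilizer_iff]
  exact Finset.sum_comm

theorem exists_fpf_of_mul_prime [FaithfulSMul G Ω] [Fintype Ω] (htr : IsPretransitive G Ω)
    {p m : ℕ} (hp : p.Prime) (hm : 1 ≤ m) (hmp : m ≤ p) (hΩ : Fintype.card Ω = m * p) :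
    ∃ g : G, orderOf g = p ∧ ∀ ω : Ω, g • ω ≠ ω := by
  classical
  rcases hmp.eq_or_lt with rfl | hlt
  · exact exists_fpf_of_prime_pow htr hp (k := 2) (by norm_num) (by rw [hΩ, pow_two])
  have := Fact.mk hp
  obtain ⟨P⟩ : Nonempty (Sylow p G) := inferInstance
  have := Fintype.ofFinite (P : Subgroup G)
  have hst : ∀ ω : Ω, p * Nat.card (stabilizer (P : Subgroup G) ω) ≤ Nat.card (P : Subgroup G) := by
    intro ω
    have h1 := pow_dvd_relIndex_stabilizer htr P (k := 1) (by rw [hΩ, pow_one]; simp) ω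
    rw [pow_one] at h1
    have h2 := (stabilizer (P : Subgroup G) ω).index_mul_card
    rw [← h2]
    exact Nat.mul_le_mul_right _ (Nat.le_of_dvd (Nat.pos_of_ne_zero Subgroup.index_ne_zero_of_finite) h1)
  obtain ⟨g, hg⟩ : ∃ g : (P : Subgroup G), ∀ ω : Ω, g • ω ≠ ω := by
    by_contra hcon
    push Not at hcon
    have h1 : ∀ g : (P : Subgroup G), p ≤ Nat.card (fixedBy Ω g) := by
      intro g
      obtain ⟨ω, hω⟩ := hcon g
      have hz : IsPGroup p (Subgroup.zpowers g) := P.isPGroup'.to_subgroup _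
      have h2 := hz.card_modEq_card_fixedPoints Ω
      have h3 : fixedPoints (Subgroup.zpowers g) Ω = fixedBy Ω g := by
        ext a
        rw [mem_fixedPoints, mem_fixedBy]
        refine ⟨fun h => h ⟨g, Subgroup.mem_zpowers g⟩, fun h x => ?_⟩
        obtain ⟨x, k, rfl⟩ := x
        exact (stabilizer (P : Subgroup G) a).zpow_mem h k
      rw [h3, Nat.card_eq_fintype_card, hΩ] at h2
      have : Nonempty (fixedBy Ω g) := ⟨⟨ω, hω⟩⟩
      exact Nat.le_of_dvd Nat.card_pos ((Nat.modEq_zero_iff_dvd.1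
        (h2.symm.trans (Nat.modEq_zero_iff_dvd.2 (dvd_mul_left p m)))))
    have h2 : Fintype.card (P : Subgroup G) * p ≤ ∑ g : (P : Subgroup G), Nat.card (fixedBy Ω g) := by
      simpa using Finset.card_nsmul_le_sum Finset.univ _ p fun g _ => h1 g
    have h3 : ∑ ω : Ω, p * Nat.card (stabilizer (P : Subgroup G) ω) ≤
        Fintype.card Ω * Nat.card (P : Subgroup G) := by
      simpa using Finset.sum_le_card_nsmul Finset.univ _ _ fun ω _ => hst ω
    rw [← Finset.mul_sum, ← sum_card_fixedBy, hΩ, Nat.card_eq_fintype_card] at h3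
    have h4 : 0 < Fintype.card (P : Subgroup G) := Fintype.card_pos
    have h5 := hp.pos
    have h6 : p * (Fintype.card (P : Subgroup G) * p) ≤ m * p * Fintype.card (P : Subgroup G) :=
      (Nat.mul_le_mul_left p h2).trans h3
    nlinarith [Nat.mul_pos h4 h5]
  have hg' : ∀ ω : Ω, (g : G) • ω ≠ ω := hg
  obtain ⟨j, hj⟩ := IsPGroup.iff_orderOf.1 P.isPGroup' g
  rw [← Subgroup.orderOf_coe] at hj
  have hne : (g : G) ≠ 1 := by
    intro h
    have : Nonempty Ω := Fintype.card_pos_iff.1 (hΩ ▸ Nat.mul_pos hm hp.pos)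
    obtain ⟨ω⟩ := this
    exact hg' ω (by rw [h, one_smul])
  refine ⟨g, orderOf_eq_prime (eq_of_smul_eq_smul (α := Ω) fun ω => ?_) hne, hg'⟩
  rw [one_smul, pow_smul_eq_iff_period_dvd]
  obtain ⟨i, -, hi⟩ := (Nat.dvd_prime_pow hp).1 (hj ▸ period_dvd_orderOf (g : G) ω)
  have h1 : period (g : G) ω ≤ Fintype.card Ω := by
    rw [period_eq_minimalPeriod]; exact Function.minimalPeriod_le_card
  rw [hi, hΩ] at h1
  have h2 : i < 2 := by
    refine (Nat.pow_lt_pow_iff_right hp.one_lt).1 (h1.trans_lt ?_)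
    rw [pow_two]; exact Nat.mul_lt_mul_of_pos_right hlt hp.pos
  rw [hi]
  interval_cases i <;> simp

/-- The Cameron-Cohen bound with its equality case. -/
theorem derangement_bound [FaithfulSMul G Ω] [Fintype Ω] (htr : IsPretransitive G Ω)
    (hn : 3 ≤ Fintype.card Ω) :
    (((∃ g : G, g ≠ 1 ∧ ∃ ω : Ω, g • ω = ω) ∧ ∀ g : G, g ≠ 1 → Nat.card (fixedBy Ω g) ≤ 1) ∧
      Nat.card G = Fintype.card Ω * (Fintype.card Ω - 1) ∧
      Fintype.card Ω * Nat.card {g : G // ∀ ω : Ω, g • ω ≠ ω} = Nat.card G) ∨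
    Nat.card G < Fintype.card Ω * Nat.card {g : G // ∀ ω : Ω, g • ω ≠ ω} := by
  classical
  have := Fintype.ofFinite G
  set n := Fintype.card Ω with hndef
  let f : G → ℕ := fun g => Nat.card (fixedBy Ω g)
  obtain ⟨a, b, hab⟩ := Fintype.exists_pair_of_one_lt_card (α := Ω) (by omega)
  have hf_le : ∀ g, f g ≤ n := fun g => by
    rw [hndef, ← Nat.card_eq_fintype_card]; exact Finite.card_subtype_le _
  have hf0 : ∀ g, f g = 0 ↔ ∀ ω : Ω, g • ω ≠ ω := fun g => by
    simp only [f, Nat.card_eq_fintype_card, Fintype.card_eq_zero_iff, isEmpty_subtype, mem_fixedBy]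
  have hfn : ∀ g, f g = n → g = 1 := by
    intro g hg
    refine eq_of_smul_eq_smul (α := Ω) fun ω => ?_
    have h1 : fixedBy Ω g = Set.univ := Set.eq_of_subset_of_ncard_le (Set.subset_univ _) (by
      rw [Set.ncard_univ, Nat.card_eq_fintype_card, ← hndef, ← hg]; rfl)
    have h2 : ω ∈ fixedBy Ω g := h1 ▸ Set.mem_univ ω
    rw [one_smul]; exact h2
  have hf1 : f 1 = n := by
    change Nat.card (fixedBy Ω (1 : G)) = n
    rw [fixedBy_one_eq_univ, Nat.card_univ, Nat.card_eq_fintype_card]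
  have hS1 : ∑ g : G, f g = Fintype.card G := by
    have h1 := sum_card_fixedBy_eq_card_orbits_mul_card_group G Ω
    have h2 : Fintype.card (Quotient (orbitRel G Ω)) = 1 := by
      have : Nonempty Ω := ⟨a⟩
      have := (pretransitive_iff_unique_quotient_of_nonempty G Ω).1 htr
      obtain ⟨u⟩ := this
      exact Fintype.card_unique
    rw [h2, one_mul] at h1
    simpa only [f, Nat.card_eq_fintype_card] using h1
  have hS2 : 2 * Fintype.card G ≤ ∑ g : G, f g * f g := by
    have h1 := sum_card_fixedBy_eq_card_orbits_mul_card_group G (Ω × Ω)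
    have h2 : 1 < Fintype.card (Quotient (orbitRel G (Ω × Ω))) := by
      refine Fintype.one_lt_card_iff.2 ⟨Quotient.mk _ (a, a), Quotient.mk _ (a, b), fun h => hab ?_⟩
      obtain ⟨g, hg⟩ := Quotient.exact h
      simp only [Prod.smul_mk, Prod.mk.injEq] at hg
      exact smul_left_cancel g (hg.1.trans hg.2.symm)
    have h3 : ∀ g : G, Fintype.card (fixedBy (Ω × Ω) g) = f g * f g := by
      intro g
      rw [← Nat.card_eq_fintype_card, ← Nat.card_prod]
      refine Nat.card_congr ⟨fun x => (⟨x.1.1, congrArg Prod.fst x.2⟩, ⟨x.1.2, congrArg Prod.snd x.2⟩),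
        fun y => ⟨(y.1.1, y.2.1), Prod.ext y.1.2 y.2.2⟩, fun x => rfl, fun y => rfl⟩
    simp only [h3] at h1
    rw [h1]; exact Nat.mul_le_mul_right _ h2
  set d := Nat.card {g : G // ∀ ω : Ω, g • ω ≠ ω} with hd
  have hdsum : d = ∑ g : G, if f g = 0 then 1 else 0 := by
    rw [hd, Nat.card_eq_fintype_card, Fintype.card_subtype, Finset.card_filter]
    exact Finset.sum_congr rfl fun g _ => by simp only [hf0]
  -- the pointwise inequality
  have hpt : ∀ g, f g * f g + n ≤ (n + 1) * f g + n * (if f g = 0 then 1 else 0) := by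
    intro g
    by_cases h : f g = 0
    · simp [h]
    · have := hf_le g
      have h1 : 1 ≤ f g := Nat.pos_of_ne_zero h
      simp only [h, if_false]
      nlinarith
  have hR : ∑ g : G, ((n + 1) * f g + n * (if f g = 0 then 1 else 0)) =
      (n + 1) * Fintype.card G + n * d := by
    rw [Finset.sum_add_distrib, ← Finset.mul_sum, ← Finset.mul_sum, hS1, hdsum]
  have hL : ∑ g : G, (f g * f g + n) = ∑ g : G, f g * f g + n * Fintype.card G := by
    rw [Finset.sum_add_distrib]; simp [mul_comm]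
  have hsum := Finset.sum_le_sum (s := Finset.univ) fun g _ => hpt g
  rw [Nat.card_eq_fintype_card (α := G)]
  by_cases hlt : Fintype.card G < n * d
  · exact Or.inr hlt
  left
  have heq : n * d = Fintype.card G := by rw [hL, hR] at hsum; nlinarith
  have hall := (Finset.sum_eq_sum_iff_of_le fun g _ => hpt g).1
    (le_antisymm hsum (by rw [hL, hR]; nlinarith))
  have hle1 : ∀ g : G, g ≠ 1 → f g ≤ 1 := by
    intro g hg
    by_contra h
    have h1 := hall g (Finset.mem_univ g)
    have h2 : f g < n := lt_of_le_of_ne (hf_le g) fun e => hg (hfn g e)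
    rw [if_neg (by omega)] at h1
    nlinarith
  have hcount : ∑ g : G, (f g + if f g = 0 then 1 else 0) = Fintype.card G + (n - 1) := by
    have h1 : ∀ g : G, (f g + if f g = 0 then 1 else 0) = 1 + if g = 1 then n - 1 else 0 := by
      intro g
      by_cases hg : g = 1
      · rw [hg, hf1, if_neg (by omega), if_pos rfl]; omega
      · have := hle1 g hg
        rw [if_neg hg]
        split_ifs <;> omega
    simp only [h1]
    rw [Finset.sum_add_distrib]; simp
  rw [Finset.sum_add_distrib, hS1, ← hdsum] at hcount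
  have hdn : d = n - 1 := by omega
  refine ⟨⟨?_, hle1⟩, by rw [← heq, hdn], heq⟩
  by_contra hcon
  push Not at hcon
  have h1 : ∑ g : G, f g = n := by
    rw [Finset.sum_eq_single 1 (fun g _ hg => (hf0 g).2 (hcon g hg)) (by simp), hf1]
  rw [hS1, ← heq, hdn] at h1
  have h2 : n * 2 ≤ n * (n - 1) := Nat.mul_le_mul_left n (by omega)
  omega

end CfsgLib.PermS
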