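import Mathlib
import Cfsg.Agent.Lib.Comp.Bender
import Cfsg.Agent.Lib.Core.Commutator
import Cfsg.Agent.Lib.Core.Fitting
import Cfsg.Agent.Lib.LAE.Cores

/-!
# The Thompson–Wielandt theorem
-/

set_option autoImplicit false

namespace CfsgLib.PermS

open Cfsg Subgroup CfsgLib.Core CfsgLib.Comp CfsgLib.LAE
open scoped commutatorElement

variable {G : Type*} [Group G]

/-- the core of `Y` in `M` -/
abbrev coreIn (M Y : Subgroup G) : Subgroup G := (Y.subgroupOf M).normalCore.map M.subtype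

theorem coreIn_le_left (M Y : Subgroup G) : coreIn M Y ≤ M := map_subtype_le _

theorem mem_coreIn {M Y : Subgroup G} {x : G} :
    x ∈ coreIn M Y ↔ x ∈ M ∧ ∀ m ∈ M, m * x * m⁻¹ ∈ Y :=
  ⟨by rintro ⟨y, hy, rfl⟩; exact ⟨y.2, fun m hm => hy ⟨m, hm⟩⟩,
    fun h => ⟨⟨x, h.1⟩, fun m => h.2 m m.2, rfl⟩⟩

theorem coreIn_le_right (M Y : Subgroup G) : coreIn M Y ≤ Y := fun x hx => by
  simpa using (mem_coreIn.1 hx).2 1 M.one_mem

theorem le_normalizer_coreIn (M Y : Subgroup G) : M ≤ normalizer (coreIn M Y : Set G) :=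
  le_normalizer_map_subtype_of_normal _

theorem le_coreIn {M Y K : Subgroup G} (h1 : K ≤ M) (h2 : K ≤ Y)
    (h3 : M ≤ normalizer (K : Set G)) : K ≤ coreIn M Y := fun _ hx =>
  mem_coreIn.2 ⟨h1 hx, fun _ hm => h2 ((h3 hm _).1 hx)⟩

/-- every nontrivial normal subgroup of `M` has normaliser `M` -/
def PrimIn (M : Subgroup G) : Prop :=
  ∀ K : Subgroup G, K ≠ ⊥ → K ≤ M → M ≤ normalizer (K : Set G) → normalizer (K : Set G) ≤ M

theorem primIn_of_isCoatom {M : Subgroup G} (hM : IsCoatom M) (hc : M.normalCore = ⊥) :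
    PrimIn M := by
  intro K hK hKM hn
  rcases hM.le_iff.1 hn with h | h
  · have := normalizer_eq_top_iff.1 h
    exact absurd (le_bot_iff.1 (hc ▸ normal_le_normalCore.2 hKM)) hK
  · exact h.le

/-- one half of the Thompson–Wielandt configuration -/
structure TWHalf (M N A B : Subgroup G) : Prop where
  hN : PrimIn N
  AM : A ≤ M
  AN : A ≤ N
  nA : M ≤ normalizer (A : Set G)
  maxA : ∀ K : Subgroup G, K ≤ M → K ≤ N → M ≤ normalizer (K : Set G) → K ≤ A
  BA : B ≤ A
  nB : N ≤ normalizer (B : Set G)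
  B0 : B ≠ ⊥

namespace TWHalf

variable [Finite G] {M N A B : Subgroup G}

theorem le_of_commutator (h : TWHalf M N A B) {P X T : Subgroup G}
    (hP : M ≤ normalizer (P : Set G)) (hXA : X ≤ A) (hX0 : X ≠ ⊥) (hXn : N ≤ normalizer (X : Set G))
    (hX : normalizer ((P ⊔ X : Subgroup G) : Set G) ≤ normalizer (X : Set G))
    (hT : T ≤ M) (hTA : ⁅T, A⁆ ≤ P) : T ≤ A := by
  have h1 : T ≤ M ⊓ commutatorStabilizer A P :=
    le_inf hT (le_commutatorStabilizer_iff.2 ⟨hT.trans hP, hTA⟩)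
  refine h1.trans (h.maxA _ inf_le_left ?_ ?_)
  · refine le_trans ?_ (hX.trans (h.hN X hX0 (hXA.trans h.AN) hXn))
    rintro m ⟨hm, -, hm'⟩
    refine mem_normalizer_of_forall_conj_mem fun x hx => ?_
    obtain ⟨a, ha, b, hb, rfl⟩ := (mem_sup_of_le_normalizer_left ((hXA.trans h.AM).trans hP)).1 hx
    have : m * (a * b) * m⁻¹ = (m * a * m⁻¹) * ⁅m, b⁆ * b := by
      simp [commutatorElement_def, mul_assoc]
    rw [this]
    exact mul_mem (mem_sup_left (mul_mem ((hP hm _).1 ha) (hm' b (hXA hb)))) (mem_sup_right hb)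
  · intro g hg
    refine mem_normalizer_of_forall_conj_mem ?_
    rintro m ⟨hm, -, hm'⟩
    have hgm : g * m * g⁻¹ ∈ M := M.mul_mem (M.mul_mem hg hm) (M.inv_mem hg)
    refine ⟨hgm, hP hgm, fun a ha => ?_⟩
    have : ⁅g * m * g⁻¹, a⁆ = g * ⁅m, g⁻¹ * a * g⁻¹⁻¹⁆ * g⁻¹ := by
      simp [commutatorElement_def, mul_assoc]
    rw [this]
    exact (hP hg _).1 (hm' _ ((h.nA (M.inv_mem hg) _).1 ha))

theorem le_of_centralizes (h : TWHalf M N A B) {T : Subgroup G} (hT : T ≤ M) (hTA : ⁅T, A⁆ = ⊥) :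
    T ≤ A :=
  h.le_of_commutator (P := ⊥) (X := B) (by rw [normalizer_eq_top_iff.2 inferInstance]; exact le_top)
    h.BA h.B0 h.nB (by rw [bot_sup_eq]) hT hTA.le

theorem layerOf_le (h : TWHalf M N A B) : layerOf M ≤ A := by
  refine map_layer_subtype_le_iff.2 fun L hLM hL => ?_
  rcases comp_rel_le_or_commutator hLM hL h.AM (hLM.trans h.nA) with h1 | h1
  · exact h1
  · exact h.le_of_centralizes hLM h1

theorem layerOf_le_layerOf (h : TWHalf M N A B) (hle : layerOf N ≤ M) : layerOf N ≤ layerOf M := by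
  refine map_layer_subtype_le_iff.2 fun L hLN hL => ?_
  have hLM : L ≤ M := (le_map_layer_subtype hLN hL).trans hle
  have hLA : L ≤ A := by
    rcases comp_rel_le_or_commutator hLN hL h.AN (hLM.trans h.nA) with h1 | h1
    · exact h1
    · exact h.le_of_centralizes hLM h1
  have h1 := comp_subgroupOf_of_le hLA h.AN hL
  refine le_map_layer_subtype hLM ⟨?_, (qs_subgroupOf_iff hLM).2 ((qs_subgroupOf_iff hLA).1 h1.2)⟩
  exact (((subnormalIn_iff.2 ⟨hLA, h1.1⟩)).trans (SubnormalIn.of_normal h.AM h.nA)).isSubnormal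

theorem pCore_le (h : TWHalf M N A B) {p : ℕ} [Fact p.Prime] (hB : ¬ IsPGroup p B) :
    pCoreOf p M ≤ A ∧ pCoreOf p N ⊓ M ≤ pCoreOf p M := by
  have hXA : pResOf p B ≤ A := (pResOf_le B).trans h.BA
  have hXn : N ≤ normalizer (pResOf p B : Set G) := le_normalizer_pResOf_of_le h.nB
  have key : ∀ T : Subgroup G, T ≤ M → ⁅T, A⁆ ≤ pCoreOf p M ⊓ A → T ≤ A := by
    intro T hT hTA
    refine h.le_of_commutator (X := pResOf p B) ?_ hXA (fun e => hB (pResOf_eq_bot_iff.1 e)) hXn ?_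
      hT hTA
    · exact (le_inf (le_normalizer_pCoreOf M) h.nA).trans (inf_normalizer_le_normalizer_inf)
    · refine (normalizer_le_normalizer_pResOf (p := p) _).trans (le_of_eq ?_)
      rw [pResOf_sup_of_isPGroup ((isPGroup_pCoreOf M).to_le inf_le_left)
        ((inf_le_right.trans h.AN).trans hXn), pResOf_pResOf]
  have hPA : pCoreOf p N ⊓ A ≤ pCoreOf p M :=
    (le_pCoreOf ((isPGroup_pCoreOf N).to_le inf_le_left) inf_le_right
      ((le_inf (h.AN.trans (le_normalizer_pCoreOf N)) le_normalizer).trans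
        inf_normalizer_le_normalizer_inf)).trans (pCoreOf_mono_of_normal h.AM h.nA)
  refine ⟨key _ (pCoreOf_le M) (le_inf ?_ ?_), ?_⟩
  · exact commutator_le_left_of_le_normalizer (h.AM.trans (le_normalizer_pCoreOf M))
  · exact commutator_le_right_of_le_normalizer ((pCoreOf_le M).trans h.nA)
  · have h1 : ⁅pCoreOf p N ⊓ M, A⁆ ≤ A :=
      commutator_le_right_of_le_normalizer (inf_le_right.trans h.nA)
    have h2 : ⁅pCoreOf p N ⊓ M, A⁆ ≤ pCoreOf p N :=
      (commutator_mono inf_le_left le_rfl).trans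
        (commutator_le_left_of_le_normalizer (h.AN.trans (le_normalizer_pCoreOf N)))
    exact (le_inf inf_le_left (key _ inf_le_right (le_inf ((le_inf h2 h1).trans hPA) h1))).trans hPA

theorem isPGroup (h : TWHalf M N A B) (hM : PrimIn M) (hne : M ≠ N) {p : ℕ} [Fact p.Prime]
    (h0 : pCoreOf p M ≠ ⊥) (hc : Nat.card (pCoreOf p M) ≤ Nat.card (pCoreOf p N)) :
    IsPGroup p B := by
  by_contra hB
  obtain ⟨h1, h2⟩ := h.pCore_le hB
  have hn : pCoreOf p M ≤ normalizer (pCoreOf p N : Set G) :=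
    (h1.trans h.AN).trans (le_normalizer_pCoreOf N)
  have hnM := hM _ h0 (pCoreOf_le M) (le_normalizer_pCoreOf M)
  have h3 : pCoreOf p N ≤ pCoreOf p M := by
    by_contra hlt
    have h4 := lt_inf_normalizer_of_isPGroup
      ((isPGroup_pCoreOf M).to_sup_of_normal_right' (isPGroup_pCoreOf N) hn)
      (left_lt_sup.2 hlt)
    refine h4.not_ge ((inf_le_inf_left _ hnM).trans ?_)
    rw [sup_inf_assoc_of_le_normalizer (pCoreOf_le M) hn]
    exact sup_le le_rfl h2
  have h4 := eq_of_le_of_card_le h3 hc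
  refine hne (le_antisymm ?_ ?_)
  · exact (le_normalizer_pCoreOf M).trans (h4 ▸ h.hN _ (h4 ▸ h0) (pCoreOf_le N) (le_normalizer_pCoreOf N))
  · exact (le_normalizer_pCoreOf N).trans (h4 ▸ hnM)

end TWHalf

theorem fitOf_le_of_forall' [Finite G] {H K : Subgroup G}
    (h : ∀ p : ℕ, p.Prime → pCoreIn p H ≠ ⊥ → pCoreIn p H ≤ K) : fitOf H ≤ K := by
  unfold fitOf
  rw [fittingSubgroup_eq_iSup_pCore, Subgroup.map_iSup]
  refine iSup_le fun p => ?_
  by_cases h0 : pCoreIn p H = ⊥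
  · exact h0.le.trans bot_le
  · exact h p p.2 h0

theorem fstar_eq_pCore_of_forall [Finite G] {M : Subgroup G} {p : ℕ} [Fact p.Prime]
    (hE : layerOf M = ⊥) (h : ∀ q : ℕ, q.Prime → pCoreOf q M ≠ ⊥ → q = p) :
    generalizedFittingSubgroup M = pCore p M := by
  refine le_antisymm ?_ (pCore_le_fstar p)
  rw [← map_le_map_iff_of_injective M.subtype_injective]
  change fstarOf M ≤ pCoreIn p M
  rw [fstarOf_eq, hE, bot_sup_eq]
  exact fitOf_le_of_forall' fun q hq h0 => by rw [h q hq h0]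

/-- **Thompson–Wielandt** for a pair of subgroups. -/
theorem thompson_wielandt_pair [Finite G] {M N A B A₂ B₂ : Subgroup G} (h₁ : TWHalf M N A B₂)
    (h₂ : TWHalf N M B A₂) (hne : M ≠ N)
    (hc : ∀ p : ℕ, Nat.card (pCoreOf p M) = Nat.card (pCoreOf p N)) :
    ∃ p : ℕ, p.Prime ∧ IsPGroup p A₂ ∧ IsPGroup p B₂ ∧
      generalizedFittingSubgroup M = pCore p M ∧ generalizedFittingSubgroup N = pCore p N := by
  have hE : layerOf M = layerOf N :=
    le_antisymm (h₂.layerOf_le_layerOf (h₁.layerOf_le.trans h₁.AN))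
      (h₁.layerOf_le_layerOf (h₂.layerOf_le.trans h₂.AN))
  have hE0 : layerOf M = ⊥ := by
    by_contra h0
    refine hne (le_antisymm ?_ ?_)
    · exact (le_normalizer_layerOf M).trans
        (hE ▸ h₁.hN _ (hE ▸ h0) (map_subtype_le _) (le_normalizer_layerOf N))
    · exact (le_normalizer_layerOf N).trans
        (hE ▸ h₂.hN _ h0 (map_subtype_le _) (le_normalizer_layerOf M))
  have hiff : ∀ p : ℕ, pCoreOf p M = ⊥ ↔ pCoreOf p N = ⊥ := fun p => by
    rw [← card_eq_one, hc, card_eq_one]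
  have hp : ∀ p : ℕ, p.Prime → pCoreOf p M ≠ ⊥ → IsPGroup p A₂ ∧ IsPGroup p B₂ := by
    intro p hp h0
    have := Fact.mk hp
    exact ⟨h₂.isPGroup h₁.hN hne.symm (mt (hiff p).2 h0) (hc p).ge,
      h₁.isPGroup h₂.hN hne h0 (hc p).le⟩
  obtain ⟨p, hpp, h0⟩ : ∃ p : ℕ, p.Prime ∧ pCoreOf p M ≠ ⊥ := by
    by_contra hcon
    push Not at hcon
    have : Nontrivial M := (nontrivial_iff_ne_bot M).2 fun e =>
      h₁.B0 (le_bot_iff.1 (e ▸ h₁.BA.trans h₁.AM))
    refine fstar_ne_bot (G := M) ((map_eq_bot_iff_of_injective _ M.subtype_injective).1 ?_)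
    change fstarOf M = ⊥
    rw [fstarOf_eq, hE0, bot_sup_eq, eq_bot_iff]
    exact fitOf_le_of_forall' fun q hq h0 => absurd (hcon q hq) h0
  have := Fact.mk hpp
  have huniq : ∀ q : ℕ, q.Prime → pCoreOf q M ≠ ⊥ → q = p := by
    intro q hq hq0
    by_contra hqp
    have := Fact.mk hq
    have := IsPGroup.disjoint_of_ne q p hqp _ _ (hp q hq hq0).2 (hp p hpp h0).2
    exact h₁.B0 (disjoint_self.1 this)
  exact ⟨p, hpp, (hp p hpp h0).1, (hp p hpp h0).2, fstar_eq_pCore_of_forall hE0 huniq,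
    fstar_eq_pCore_of_forall (hE ▸ hE0) fun q hq h => huniq q hq (mt (hiff q).1 h)⟩

theorem twHalf_core {M N : Subgroup G} (hN : PrimIn N) {A B : Subgroup G} (hA : A = coreIn M (M ⊓ N))
    (hB : coreIn N (A ⊓ B) ≠ ⊥) : TWHalf M N A (coreIn N (A ⊓ B)) where
  hN := hN
  AM := hA ▸ coreIn_le_left _ _
  AN := hA ▸ (coreIn_le_right _ _).trans inf_le_right
  nA := hA ▸ le_normalizer_coreIn _ _
  maxA := fun _ h1 h2 h3 => hA ▸ le_coreIn h1 (le_inf h1 h2) h3
  BA := (coreIn_le_right _ _).trans inf_le_left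
  nB := le_normalizer_coreIn _ _
  B0 := hB

/-- **Thompson–Wielandt** for two conjugate core-free maximal subgroups. -/
theorem thompson_wielandt [Finite G] {M N A B : Subgroup G} (hM : IsCoatom M) (g : G)
    (hconj : N = M.map (MulAut.conj g).toMonoidHom) (hne : M ≠ N) (hcore : M.normalCore = ⊥)
    (hA : A = coreIn M (M ⊓ N)) (hB : B = coreIn N (M ⊓ N))
    (hA2 : coreIn M (A ⊓ B) ≠ ⊥) (hB2 : coreIn N (A ⊓ B) ≠ ⊥) :
    ∃ p : ℕ, p.Prime ∧ IsPGroup p (coreIn M (A ⊓ B)) ∧ IsPGroup p (coreIn N (A ⊓ B)) ∧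
      generalizedFittingSubgroup M = pCore p M ∧ generalizedFittingSubgroup N = pCore p N := by
  have hN : IsCoatom N := by
    rw [hconj]; exact (OrderIso.isCoatom_iff (MulAut.conj g).mapSubgroup M).2 hM
  have hcN : N.normalCore = ⊥ := by
    rw [eq_bot_iff, ← hcore, normal_le_normalCore]
    intro x hx
    have := hx g
    rw [hconj, mem_map_conj_iff] at this
    simpa [mul_assoc] using this
  have h₂ := twHalf_core (B := A) (primIn_of_isCoatom hM hcore) (hB.trans (by rw [inf_comm]))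
    (by rwa [inf_comm])
  rw [inf_comm] at h₂
  refine thompson_wielandt_pair (twHalf_core (primIn_of_isCoatom hN hcN) hA hB2) h₂ hne fun p => ?_
  rw [hconj, ← conjS_def, ← conjS_pCoreOf, card_conjS]

theorem relIndex_coreIn_dvd (M Y : Subgroup G) [Finite G] :
    (coreIn M Y).relIndex M ∣ (Y.relIndex M).factorial := by
  rw [relIndex, subgroupOf, comap_map_eq_self_of_injective M.subtype_injective, normalCore_eq_ker, index_ker, relIndex, index_eq_card,
    ← Nat.card_perm]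
  exact card_subgroup_dvd_card _

/-- the index of the second core -/
theorem relIndex_coreIn_two_dvd [Finite G] {M N A B : Subgroup G} {d : ℕ} (hM : N.relIndex M = d)
    (hN : M.relIndex N = d) (hA : A = coreIn M (M ⊓ N)) (hB : B = coreIn N (M ⊓ N)) :
    (coreIn M (A ⊓ B)).relIndex M ∣ d.factorial * (d - 1).factorial ^ d := by
  have hd : d ≠ 0 := hM ▸ index_ne_zero_of_finite
  have hAM : A ≤ M := hA ▸ coreIn_le_left _ _
  have hAD : A ≤ M ⊓ N := hA ▸ coreIn_le_right _ _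
  have hBD : B ≤ M ⊓ N := hB ▸ coreIn_le_right _ _
  have hnA : M ≤ normalizer (A : Set G) := hA ▸ le_normalizer_coreIn _ _
  have hnB : N ≤ normalizer (B : Set G) := hB ▸ le_normalizer_coreIn _ _
  have h1 : A.relIndex M ∣ d.factorial := by
    rw [hA, ← hM, ← inf_relIndex_left M N]; exact relIndex_coreIn_dvd _ _
  have h2 : B.relIndex (M ⊓ N) ∣ (d - 1).factorial := by
    have h3 := relIndex_coreIn_dvd N (M ⊓ N)
    rw [← hB, ← relIndex_mul_relIndex B (M ⊓ N) N hBD inf_le_right, inf_relIndex_right, hN,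
      ← Nat.mul_factorial_pred hd, mul_comm d] at h3
    exact Nat.dvd_of_mul_dvd_mul_right (Nat.pos_of_ne_zero hd) h3
  have hle : coreIn M (A ⊓ B) ≤ A := (coreIn_le_right _ _).trans inf_le_left
  rw [← relIndex_mul_relIndex _ A M hle hAM, mul_comm]
  refine mul_dvd_mul h1 (dvd_trans ?_ (pow_dvd_pow_of_dvd h2 d))
  have hBn : (B.subgroupOf (M ⊓ N)).Normal :=
    (normal_subgroupOf_iff_le_normalizer hBD).2 (inf_le_right.trans hnB)
  let φ : (M ⧸ N.subgroupOf M) → A →* ↥(M ⊓ N) := fun q =>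
    { toFun := fun a => ⟨(q.out : G)⁻¹ * a * (q.out : G)⁻¹⁻¹,
        hAD ((hnA (M.inv_mem q.out.2) _).1 a.2)⟩
      map_one' := by simp
      map_mul' := fun a b => by ext; simp [mul_assoc] }
  let ψ : A →* ((M ⧸ N.subgroupOf M) → ↥(M ⊓ N) ⧸ B.subgroupOf (M ⊓ N)) :=
    MonoidHom.pi fun q => (QuotientGroup.mk' _).comp (φ q)
  have hker : ψ.ker ≤ (coreIn M (A ⊓ B)).subgroupOf A := by
    intro a ha
    refine mem_coreIn.2 ⟨hAM a.2, fun m hm => ⟨(hnA hm _).1 a.2, ?_⟩⟩
    obtain ⟨n, hn⟩ := QuotientGroup.mk_out_eq_mul (N.subgroupOf M) (⟨m⁻¹, M.inv_mem hm⟩ : M)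
    have h3 := (QuotientGroup.eq_one_iff _).1 (congrFun (MonoidHom.mem_ker.1 ha) (⟨m⁻¹, M.inv_mem hm⟩ : M))
    change _⁻¹ * (a : G) * _⁻¹⁻¹ ∈ B at h3
    rw [hn] at h3
    have := (hnB n.2 _).1 h3
    simpa [mul_assoc] using this
  refine (index_dvd_of_le hker).trans ?_
  rw [index_ker]
  refine (card_subgroup_dvd_card _).trans (dvd_of_eq ?_)
  have := Fintype.ofFinite (M ⧸ N.subgroupOf M)
  rw [Nat.card_fun, ← hM]
  rfl

open MulAction in
/-- Thompson–Wielandt for primitive permutation groups -/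
theorem thompson_wielandt_perm {Ω : Type*} [Finite G] [MulAction G Ω] [FaithfulSMul G Ω]
    (hprim : IsPreprimitive G Ω) (a b : Ω) (d : ℕ) (hd : Nat.card (orbit (stabilizer G a) b) = d)
    (h2 : 2 ≤ d) :
    Nat.card (stabilizer G a) ∣ d.factorial * (d - 1).factorial ^ d ∨
      ∃ p : ℕ, p.Prime ∧ generalizedFittingSubgroup (stabilizer G a) = pCore p (stabilizer G a) ∧
        ∃ P : Subgroup (stabilizer G a), P.Normal ∧ IsPGroup p P ∧
          (∀ g : P, ((g : stabilizer G a) : G) • b = b) ∧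
          P.index ∣ d.factorial * (d - 1).factorial ^ d := by
  set M := stabilizer G a with hMd
  set N := stabilizer G b with hNd
  have hM : N.relIndex M = d := by
    rw [← hd, Nat.card_coe_set_eq, ← index_stabilizer]; rfl
  have hne : M ≠ N := fun e => by rw [e, relIndex_self] at hM; omega
  have : Nontrivial Ω := ⟨a, b, fun e => hne (by rw [hMd, hNd, e])⟩
  obtain ⟨g, hg⟩ := exists_smul_eq G a b
  have hconj : N = M.map (MulAut.conj g).toMonoidHom := by
    rw [hNd, ← hg, stabilizer_smul_eq_stabilizer_map_conj]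
  have hcard : Nat.card N = Nat.card M := by rw [hconj, card_map_conj]
  have hN : M.relIndex N = d := by
    have e1 := card_inf_mul_relIndex M N
    have e2 := card_inf_mul_relIndex N M
    rw [inf_comm, ← hcard, ← e1, hM] at e2
    exact (Nat.eq_of_mul_eq_mul_left Nat.card_pos e2).symm
  have hcore : M.normalCore = ⊥ := by
    rw [eq_bot_iff]
    intro x hx
    refine eq_of_smul_eq_smul (α := Ω) fun c => ?_
    obtain ⟨k, rfl⟩ := exists_smul_eq G a c
    have : (k⁻¹ * x * k⁻¹⁻¹) • a = a := hx k⁻¹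
    rw [inv_inv, mul_smul, mul_smul, inv_smul_eq_iff] at this
    rw [this, one_smul]
  have hmax : IsCoatom M := (isCoatom_stabilizer_iff_preprimitive G a).2 hprim
  have i1 := relIndex_coreIn_two_dvd hM hN rfl rfl
  have i2 := relIndex_coreIn_two_dvd hN hM rfl rfl
  rw [inf_comm N M, inf_comm (coreIn N _)] at i2
  by_cases hA2 : coreIn M (coreIn M (M ⊓ N) ⊓ coreIn N (M ⊓ N)) = ⊥
  · left; rwa [hA2, relIndex_bot_left] at i1
  by_cases hB2 : coreIn N (coreIn M (M ⊓ N) ⊓ coreIn N (M ⊓ N)) = ⊥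
  · left; rwa [hB2, relIndex_bot_left, hcard] at i2
  obtain ⟨p, hp, h1, -, h3, -⟩ := thompson_wielandt hmax g hconj hne hcore rfl rfl hA2 hB2
  refine Or.inr ⟨p, hp, h3, (coreIn M (coreIn M (M ⊓ N) ⊓ coreIn N (M ⊓ N))).subgroupOf M,
    (normal_subgroupOf_iff_le_normalizer (coreIn_le_left _ _)).2 (le_normalizer_coreIn _ _),
    h1.comap_subtype, fun x => ?_, i1⟩
  exact (coreIn_le_left N _ (coreIn_le_right _ _ x.2).2 : _ ∈ N)

end CfsgLib.PermS
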